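import Cfsg.Agent.Spor.M11a.D0

set_option autoImplicit false
set_option maxRecDepth 100000000
set_option Elab.async false

namespace Cfsg.Agent.Spor.M11a

theorem ok0 : Net.okb 8 n0 = true := by decide +kernel

theorem ok1 : Net.okb 8 n1 = true := by decide +kernel

theorem ok2 : Net.okb 8 n2 = true := by decide +kernel

theorem ok3 : Net.okb 8 n3 = true := by decide +kernel

theorem ok4 : Net.okb 8 n4 = true := by decide +kernel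

theorem rel0 : T.rel 8 [1, 1] 0 8 = true := by decide +kernel

theorem rel1 : T.rel 8 [4, 2, 2, 1, 2, 2, 1, 3, 3] 0 8 = true := by decide +kernel

theorem rel2 : T.rel 8 [6, 2, 1, 3, 1, 2, 1, 3, 1, 2, 1, 3] 0 8 = true := by decide +kernel

theorem rel3 : T.rel 8 [8, 3, 1, 2, 1, 3, 1, 2, 1, 3, 1, 2] 0 8 = true := by decide +kernel

theorem rel4 : T.rel 8 [4, 6, 4, 8, 6, 4, 6, 8] 0 8 = true := by decide +kernel

theorem rel5 : T.rel 8 [4, 8, 4, 8, 4, 8] 0 8 = true := by decide +kernel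

theorem rel6 : T.rel 8 [4, 4] 0 8 = true := by decide +kernel

theorem rel7 : T.rel 8 [6, 6] 0 8 = true := by decide +kernel

theorem rel8 : T.rel 8 [8, 8] 0 8 = true := by decide +kernel

theorem rel9 : T.rel 8 [2, 2, 2, 2] 0 8 = true := by decide +kernel

theorem rel10 : T.rel 8 [2, 1, 2, 2, 1, 2, 1, 2, 1, 3, 1, 2, 1, 2, 7] 0 8 = true := by decide +kernel

theorem rel11 : T.rel 8 [2, 1, 2, 2, 1, 3, 1, 2, 1, 2, 1, 3, 9, 7, 5, 7] 0 8 = true := by decide +kernel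

theorem hcov : T.treeCov (ones 165) L 1 = true := by decide +kernel

theorem hg : lall (fun z => band (memL L z) (band (sub (ones 165) (T.let z).cl) (T.closed (ones 165) z))) gs = true := by decide +kernel

theorem rot1_1 : T.rot 1 [1] (sel (ones 165) ip1 1) = true := by decide +kernel

theorem rot1_1r : band (Rule.ok (2 * 1) EX RL ⟨1 :: [1], [], 8, false⟩) (lall (memL L) [1]) = true := by decide +kernel

theorem rot1_2 : T.rot 1 [3, 3, 1, 3, 3, 5, 2, 2] (sel (ones 165) ip1 2) = true := by decide +kernel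

theorem rot1_2r : band (Rule.ok (2 * 1) EX RL ⟨1 :: [3, 3, 1, 3, 3, 5, 2, 2], [], 8, false⟩) (lall (memL L) [3, 3, 1, 3, 3, 5, 2, 2]) = true := by decide +kernel

theorem rot1_3 : T.rot 1 [3, 3, 4, 2, 2, 1, 2, 2] (sel (ones 165) ip1 3) = true := by decide +kernel

theorem rot1_3r : band (Rule.ok (2 * 1) EX RL ⟨1 :: [3, 3, 4, 2, 2, 1, 2, 2], [], 8, false⟩) (lall (memL L) [3, 3, 4, 2, 2, 1, 2, 2]) = true := by decide +kernel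

theorem rot1_4 : T.rot 1 [3, 1, 2, 1, 3, 7, 2, 1, 3, 1, 2] (sel (ones 165) ip1 4) = true := by decide +kernel

theorem rot1_4r : band (Rule.ok (2 * 1) EX RL ⟨1 :: [3, 1, 2, 1, 3, 7, 2, 1, 3, 1, 2], [], 8, false⟩) (lall (memL L) [3, 1, 2, 1, 3, 7, 2, 1, 3, 1, 2]) = true := by decide +kernel

theorem rot1_5 : T.rot 1 [2, 1, 3, 7, 2, 1, 3, 1, 2, 1, 3] (sel (ones 165) ip1 5) = true := by decide +kernel

theorem rot1_5r : band (Rule.ok (2 * 1) EX RL ⟨1 :: [2, 1, 3, 7, 2, 1, 3, 1, 2, 1, 3], [], 8, false⟩) (lall (memL L) [2, 1, 3, 7, 2, 1, 3, 1, 2, 1, 3]) = true := by decide +kernel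

theorem rot1_6 : T.rot 1 [3, 6, 2, 1, 3, 1, 2, 1, 3, 1, 2] (sel (ones 165) ip1 6) = true := by decide +kernel

theorem rot1_6r : band (Rule.ok (2 * 1) EX RL ⟨1 :: [3, 6, 2, 1, 3, 1, 2, 1, 3, 1, 2], [], 8, false⟩) (lall (memL L) [3, 6, 2, 1, 3, 1, 2, 1, 3, 1, 2]) = true := by decide +kernel

theorem rot1_7 : T.rot 1 [2, 1, 3, 1, 2, 9, 3, 1, 2, 1, 3] (sel (ones 165) ip1 7) = true := by decide +kernel

theorem rot1_7r : band (Rule.ok (2 * 1) EX RL ⟨1 :: [2, 1, 3, 1, 2, 9, 3, 1, 2, 1, 3], [], 8, false⟩) (lall (memL L) [2, 1, 3, 1, 2, 9, 3, 1, 2, 1, 3]) = true := by decide +kernel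

theorem rot1_8 : T.rot 1 [3, 1, 2, 9, 3, 1, 2, 1, 3, 1, 2] (sel (ones 165) ip1 8) = true := by decide +kernel

theorem rot1_8r : band (Rule.ok (2 * 1) EX RL ⟨1 :: [3, 1, 2, 9, 3, 1, 2, 1, 3, 1, 2], [], 8, false⟩) (lall (memL L) [3, 1, 2, 9, 3, 1, 2, 1, 3, 1, 2]) = true := by decide +kernel

theorem rot1_9 : T.rot 1 [3, 1, 2, 1, 3, 1, 2, 8, 3, 1, 2] (sel (ones 165) ip1 9) = true := by decide +kernel

theorem rot1_9r : band (Rule.ok (2 * 1) EX RL ⟨1 :: [3, 1, 2, 1, 3, 1, 2, 8, 3, 1, 2], [], 8, false⟩) (lall (memL L) [3, 1, 2, 1, 3, 1, 2, 8, 3, 1, 2]) = true := by decide +kernel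

theorem rot1_10 : T.rot 1 [2, 2, 1, 2, 1, 2, 1, 3, 1, 2, 1, 2, 7, 2] (sel (ones 165) ip1 10) = true := by decide +kernel

theorem rot1_10r : band (Rule.ok (2 * 1) EX RL ⟨1 :: [2, 2, 1, 2, 1, 2, 1, 3, 1, 2, 1, 2, 7, 2], [3], 6, true⟩) (lall (memL L) [2, 2, 1, 2, 1, 2, 1, 3, 1, 2, 1, 2, 7, 2]) = true := by decide +kernel

theorem rot1_11 : T.rot 1 [2, 1, 2, 1, 3, 1, 2, 1, 2, 7, 2, 1, 2, 2] (sel (ones 165) ip1 11) = true := by decide +kernel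

theorem rot1_11r : band (Rule.ok (2 * 1) EX RL ⟨1 :: [2, 1, 2, 1, 3, 1, 2, 1, 2, 7, 2, 1, 2, 2], [3, 0, 3, 3], 6, true⟩) (lall (memL L) [2, 1, 2, 1, 3, 1, 2, 1, 2, 7, 2, 1, 2, 2]) = true := by decide +kernel

theorem rot1_12 : T.rot 1 [2, 1, 3, 1, 2, 1, 2, 7, 2, 1, 2, 2, 1, 2] (sel (ones 165) ip1 12) = true := by decide +kernel

theorem rot1_12r : band (Rule.ok (2 * 1) EX RL ⟨1 :: [2, 1, 3, 1, 2, 1, 2, 7, 2, 1, 2, 2, 1, 2], [3, 0, 3, 3, 0, 3], 6, true⟩) (lall (memL L) [2, 1, 3, 1, 2, 1, 2, 7, 2, 1, 2, 2, 1, 2]) = true := by decide +kernel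

theorem rot1_13 : T.rot 1 [3, 1, 2, 1, 2, 7, 2, 1, 2, 2, 1, 2, 1, 2] (sel (ones 165) ip1 13) = true := by decide +kernel

theorem rot1_13r : band (Rule.ok (2 * 1) EX RL ⟨1 :: [3, 1, 2, 1, 2, 7, 2, 1, 2, 2, 1, 2, 1, 2], [3, 0, 3, 3, 0, 3, 0, 3], 6, true⟩) (lall (memL L) [3, 1, 2, 1, 2, 7, 2, 1, 2, 2, 1, 2, 1, 2]) = true := by decide +kernel

theorem rot1_14 : T.rot 1 [2, 1, 2, 7, 2, 1, 2, 2, 1, 2, 1, 2, 1, 3] (sel (ones 165) ip1 14) = true := by decide +kernel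

theorem rot1_14r : band (Rule.ok (2 * 1) EX RL ⟨1 :: [2, 1, 2, 7, 2, 1, 2, 2, 1, 2, 1, 2, 1, 3], [3, 0, 3, 3, 0, 3, 0, 3, 0, 2], 6, true⟩) (lall (memL L) [2, 1, 2, 7, 2, 1, 2, 2, 1, 2, 1, 2, 1, 3]) = true := by decide +kernel

theorem rot1_15 : T.rot 1 [2, 7, 2, 1, 2, 2, 1, 2, 1, 2, 1, 3, 1, 2] (sel (ones 165) ip1 15) = true := by decide +kernel

theorem rot1_15r : band (Rule.ok (2 * 1) EX RL ⟨1 :: [2, 7, 2, 1, 2, 2, 1, 2, 1, 2, 1, 3, 1, 2], [3, 0, 3, 3, 0, 3, 0, 3, 0, 2, 0, 3], 6, true⟩) (lall (memL L) [2, 7, 2, 1, 2, 2, 1, 2, 1, 2, 1, 3, 1, 2]) = true := by decide +kernel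

theorem rot1_16 : T.rot 1 [3, 1, 2, 1, 3, 1, 3, 1, 3, 3, 1, 3, 6, 3] (sel (ones 165) ip1 16) = true := by decide +kernel

theorem rot1_16r : band (Rule.ok (2 * 1) EX RL ⟨1 :: [3, 1, 2, 1, 3, 1, 3, 1, 3, 3, 1, 3, 6, 3], [3, 0, 2, 0, 3, 0, 2, 0, 3, 0, 2, 2], 6, false⟩) (lall (memL L) [3, 1, 2, 1, 3, 1, 3, 1, 3, 3, 1, 3, 6, 3]) = true := by decide +kernel

theorem rot1_17 : T.rot 1 [2, 1, 3, 1, 3, 1, 3, 3, 1, 3, 6, 3, 1, 3] (sel (ones 165) ip1 17) = true := by decide +kernel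

theorem rot1_17r : band (Rule.ok (2 * 1) EX RL ⟨1 :: [2, 1, 3, 1, 3, 1, 3, 3, 1, 3, 6, 3, 1, 3], [3, 0, 3, 3, 0, 3, 0, 3, 0, 2, 0], 6, false⟩) (lall (memL L) [2, 1, 3, 1, 3, 1, 3, 3, 1, 3, 6, 3, 1, 3]) = true := by decide +kernel

theorem rot1_18 : T.rot 1 [3, 1, 3, 1, 3, 3, 1, 3, 6, 3, 1, 3, 1, 2] (sel (ones 165) ip1 18) = true := by decide +kernel

theorem rot1_18r : band (Rule.ok (2 * 1) EX RL ⟨1 :: [3, 1, 3, 1, 3, 3, 1, 3, 6, 3, 1, 3, 1, 2], [3, 0, 3, 3, 0, 3, 0, 3, 0], 6, false⟩) (lall (memL L) [3, 1, 3, 1, 3, 3, 1, 3, 6, 3, 1, 3, 1, 2]) = true := by decide +kernel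

theorem rot1_19 : T.rot 1 [3, 1, 3, 3, 1, 3, 6, 3, 1, 3, 1, 2, 1, 3] (sel (ones 165) ip1 19) = true := by decide +kernel

theorem rot1_19r : band (Rule.ok (2 * 1) EX RL ⟨1 :: [3, 1, 3, 3, 1, 3, 6, 3, 1, 3, 1, 2, 1, 3], [3, 0, 3, 3, 0, 3, 0], 6, false⟩) (lall (memL L) [3, 1, 3, 3, 1, 3, 6, 3, 1, 3, 1, 2, 1, 3]) = true := by decide +kernel

theorem rot1_20 : T.rot 1 [3, 3, 1, 3, 6, 3, 1, 3, 1, 2, 1, 3, 1, 3] (sel (ones 165) ip1 20) = true := by decide +kernel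

theorem rot1_20r : band (Rule.ok (2 * 1) EX RL ⟨1 :: [3, 3, 1, 3, 6, 3, 1, 3, 1, 2, 1, 3, 1, 3], [3, 0, 3, 3, 0], 6, false⟩) (lall (memL L) [3, 3, 1, 3, 6, 3, 1, 3, 1, 2, 1, 3, 1, 3]) = true := by decide +kernel

theorem rot1_21 : T.rot 1 [3, 6, 3, 1, 3, 1, 2, 1, 3, 1, 3, 1, 3, 3] (sel (ones 165) ip1 21) = true := by decide +kernel

theorem rot1_21r : band (Rule.ok (2 * 1) EX RL ⟨1 :: [3, 6, 3, 1, 3, 1, 2, 1, 3, 1, 3, 1, 3, 3], [3, 0], 6, false⟩) (lall (memL L) [3, 6, 3, 1, 3, 1, 2, 1, 3, 1, 3, 1, 3, 3]) = true := by decide +kernel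

theorem rot1_22 : T.rot 1 [2, 1, 2, 1, 3, 9, 7, 5, 7, 2, 1, 2, 2, 1, 3] (sel (ones 165) ip1 22) = true := by decide +kernel

theorem rot1_22r : band (Rule.ok (2 * 1) EX RL ⟨1 :: [2, 1, 2, 1, 3, 9, 7, 5, 7, 2, 1, 2, 2, 1, 3], [3, 0, 3, 3, 0, 2], 7, true⟩) (lall (memL L) [2, 1, 2, 1, 3, 9, 7, 5, 7, 2, 1, 2, 2, 1, 3]) = true := by decide +kernel

theorem rot1_23 : T.rot 1 [2, 1, 3, 9, 7, 5, 7, 2, 1, 2, 2, 1, 3, 1, 2] (sel (ones 165) ip1 23) = true := by decide +kernel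

theorem rot1_23r : band (Rule.ok (2 * 1) EX RL ⟨1 :: [2, 1, 3, 9, 7, 5, 7, 2, 1, 2, 2, 1, 3, 1, 2], [3, 0, 3, 3, 0, 2, 0, 3], 7, true⟩) (lall (memL L) [2, 1, 3, 9, 7, 5, 7, 2, 1, 2, 2, 1, 3, 1, 2]) = true := by decide +kernel

theorem rot1_24 : T.rot 1 [3, 9, 7, 5, 7, 2, 1, 2, 2, 1, 3, 1, 2, 1, 2] (sel (ones 165) ip1 24) = true := by decide +kernel

theorem rot1_24r : band (Rule.ok (2 * 1) EX RL ⟨1 :: [3, 9, 7, 5, 7, 2, 1, 2, 2, 1, 3, 1, 2, 1, 2], [3, 0, 3, 3, 0, 2, 0, 3, 0, 3], 7, true⟩) (lall (memL L) [3, 9, 7, 5, 7, 2, 1, 2, 2, 1, 3, 1, 2, 1, 2]) = true := by decide +kernel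

theorem rot1_25 : T.rot 1 [3, 1, 3, 1, 2, 1, 3, 3, 1, 3, 6, 4, 6, 8, 2] (sel (ones 165) ip1 25) = true := by decide +kernel

theorem rot1_25r : band (Rule.ok (2 * 1) EX RL ⟨1 :: [3, 1, 3, 1, 2, 1, 3, 3, 1, 3, 6, 4, 6, 8, 2], [3, 0, 3, 3, 0, 2, 0, 3, 0, 3, 0], 7, false⟩) (lall (memL L) [3, 1, 3, 1, 2, 1, 3, 3, 1, 3, 6, 4, 6, 8, 2]) = true := by decide +kernel

theorem rot1_26 : T.rot 1 [3, 1, 2, 1, 3, 3, 1, 3, 6, 4, 6, 8, 2, 1, 3] (sel (ones 165) ip1 26) = true := by decide +kernel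

theorem rot1_26r : band (Rule.ok (2 * 1) EX RL ⟨1 :: [3, 1, 2, 1, 3, 3, 1, 3, 6, 4, 6, 8, 2, 1, 3], [3, 0, 3, 3, 0, 2, 0, 3, 0], 7, false⟩) (lall (memL L) [3, 1, 2, 1, 3, 3, 1, 3, 6, 4, 6, 8, 2, 1, 3]) = true := by decide +kernel

theorem rot1_27 : T.rot 1 [2, 1, 3, 3, 1, 3, 6, 4, 6, 8, 2, 1, 3, 1, 3] (sel (ones 165) ip1 27) = true := by decide +kernel

theorem rot1_27r : band (Rule.ok (2 * 1) EX RL ⟨1 :: [2, 1, 3, 3, 1, 3, 6, 4, 6, 8, 2, 1, 3, 1, 3], [3, 0, 3, 3, 0, 2, 0], 7, false⟩) (lall (memL L) [2, 1, 3, 3, 1, 3, 6, 4, 6, 8, 2, 1, 3, 1, 3]) = true := by decide +kernel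

theorem cov1 : T.cover 1 [(sel (ones 165) ip1 1), (sel (ones 165) ip1 2), (sel (ones 165) ip1 3), (sel (ones 165) ip1 4), (sel (ones 165) ip1 5), (sel (ones 165) ip1 6), (sel (ones 165) ip1 7), (sel (ones 165) ip1 8), (sel (ones 165) ip1 9), (sel (ones 165) ip1 10), (sel (ones 165) ip1 11), (sel (ones 165) ip1 12), (sel (ones 165) ip1 13), (sel (ones 165) ip1 14), (sel (ones 165) ip1 15), (sel (ones 165) ip1 16), (sel (ones 165) ip1 17), (sel (ones 165) ip1 18), (sel (ones 165) ip1 19), (sel (ones 165) ip1 20), (sel (ones 165) ip1 21), (sel (ones 165) ip1 22), (sel (ones 165) ip1 23), (sel (ones 165) ip1 24), (sel (ones 165) ip1 25), (sel (ones 165) ip1 26), (sel (ones 165) ip1 27)] = true := by decide +kernel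

theorem tl1 : T.treeLt 8 1 = true := by decide +kernel

theorem rot2_1 : T.rot 2 [3] (sel (ones 165) ip2 1) = true := by decide +kernel

theorem rot2_1r : band (Rule.ok (2 * 1) EX RL ⟨2 :: [3], [], 8, false⟩) (lall (memL L) [3]) = true := by decide +kernel

theorem rot2_2 : T.rot 2 [2, 2, 2] (sel (ones 165) ip2 2) = true := by decide +kernel

theorem rot2_2r : band (Rule.ok (2 * 1) EX RL ⟨2 :: [2, 2, 2], [], 5, true⟩) (lall (memL L) [2, 2, 2]) = true := by decide +kernel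

theorem rot2_3 : T.rot 2 [1, 2, 2, 1, 3, 3, 4, 2] (sel (ones 165) ip2 3) = true := by decide +kernel

theorem rot2_3r : band (Rule.ok (2 * 1) EX RL ⟨2 :: [1, 2, 2, 1, 3, 3, 4, 2], [], 8, false⟩) (lall (memL L) [1, 2, 2, 1, 3, 3, 4, 2]) = true := by decide +kernel

theorem rot2_4 : T.rot 2 [1, 3, 3, 4, 2, 2, 1, 2] (sel (ones 165) ip2 4) = true := by decide +kernel

theorem rot2_4r : band (Rule.ok (2 * 1) EX RL ⟨2 :: [1, 3, 3, 4, 2, 2, 1, 2], [], 8, false⟩) (lall (memL L) [1, 3, 3, 4, 2, 2, 1, 2]) = true := by decide +kernel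

theorem rot2_5 : T.rot 2 [1, 3, 1, 2, 1, 3, 7, 2, 1, 3, 1] (sel (ones 165) ip2 5) = true := by decide +kernel

theorem rot2_5r : band (Rule.ok (2 * 1) EX RL ⟨2 :: [1, 3, 1, 2, 1, 3, 7, 2, 1, 3, 1], [], 8, false⟩) (lall (memL L) [1, 3, 1, 2, 1, 3, 7, 2, 1, 3, 1]) = true := by decide +kernel

theorem rot2_6 : T.rot 2 [1, 3, 1, 2, 1, 3, 1, 2, 1, 3, 6] (sel (ones 165) ip2 6) = true := by decide +kernel

theorem rot2_6r : band (Rule.ok (2 * 1) EX RL ⟨2 :: [1, 3, 1, 2, 1, 3, 1, 2, 1, 3, 6], [], 8, false⟩) (lall (memL L) [1, 3, 1, 2, 1, 3, 1, 2, 1, 3, 6]) = true := by decide +kernel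

theorem rot2_7 : T.rot 2 [1, 3, 1, 2, 1, 3, 6, 2, 1, 3, 1] (sel (ones 165) ip2 7) = true := by decide +kernel

theorem rot2_7r : band (Rule.ok (2 * 1) EX RL ⟨2 :: [1, 3, 1, 2, 1, 3, 6, 2, 1, 3, 1], [], 8, false⟩) (lall (memL L) [1, 3, 1, 2, 1, 3, 6, 2, 1, 3, 1]) = true := by decide +kernel

theorem rot2_8 : T.rot 2 [9, 3, 1, 2, 1, 3, 1, 2, 1, 3, 1] (sel (ones 165) ip2 8) = true := by decide +kernel

theorem rot2_8r : band (Rule.ok (2 * 1) EX RL ⟨2 :: [9, 3, 1, 2, 1, 3, 1, 2, 1, 3, 1], [], 8, false⟩) (lall (memL L) [9, 3, 1, 2, 1, 3, 1, 2, 1, 3, 1]) = true := by decide +kernel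

theorem rot2_9 : T.rot 2 [1, 3, 1, 2, 8, 3, 1, 2, 1, 3, 1] (sel (ones 165) ip2 9) = true := by decide +kernel

theorem rot2_9r : band (Rule.ok (2 * 1) EX RL ⟨2 :: [1, 3, 1, 2, 8, 3, 1, 2, 1, 3, 1], [], 8, false⟩) (lall (memL L) [1, 3, 1, 2, 8, 3, 1, 2, 1, 3, 1]) = true := by decide +kernel

theorem rot2_10 : T.rot 2 [2, 1, 2, 1, 2, 1, 3, 1, 2, 1, 2, 7, 2, 1] (sel (ones 165) ip2 10) = true := by decide +kernel

theorem rot2_10r : band (Rule.ok (2 * 1) EX RL ⟨2 :: [2, 1, 2, 1, 2, 1, 3, 1, 2, 1, 2, 7, 2, 1], [3, 0], 6, true⟩) (lall (memL L) [2, 1, 2, 1, 2, 1, 3, 1, 2, 1, 2, 7, 2, 1]) = true := by decide +kernel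

theorem rot2_11 : T.rot 2 [1, 2, 1, 2, 1, 3, 1, 2, 1, 2, 7, 2, 1, 2] (sel (ones 165) ip2 11) = true := by decide +kernel

theorem rot2_11r : band (Rule.ok (2 * 1) EX RL ⟨2 :: [1, 2, 1, 2, 1, 3, 1, 2, 1, 2, 7, 2, 1, 2], [3, 0, 3], 6, true⟩) (lall (memL L) [1, 2, 1, 2, 1, 3, 1, 2, 1, 2, 7, 2, 1, 2]) = true := by decide +kernel

theorem rot2_12 : T.rot 2 [1, 2, 1, 3, 1, 2, 1, 2, 7, 2, 1, 2, 2, 1] (sel (ones 165) ip2 12) = true := by decide +kernel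

theorem rot2_12r : band (Rule.ok (2 * 1) EX RL ⟨2 :: [1, 2, 1, 3, 1, 2, 1, 2, 7, 2, 1, 2, 2, 1], [3, 0, 3, 3, 0], 6, true⟩) (lall (memL L) [1, 2, 1, 3, 1, 2, 1, 2, 7, 2, 1, 2, 2, 1]) = true := by decide +kernel

theorem rot2_13 : T.rot 2 [1, 3, 1, 2, 1, 2, 7, 2, 1, 2, 2, 1, 2, 1] (sel (ones 165) ip2 13) = true := by decide +kernel

theorem rot2_13r : band (Rule.ok (2 * 1) EX RL ⟨2 :: [1, 3, 1, 2, 1, 2, 7, 2, 1, 2, 2, 1, 2, 1], [3, 0, 3, 3, 0, 3, 0], 6, true⟩) (lall (memL L) [1, 3, 1, 2, 1, 2, 7, 2, 1, 2, 2, 1, 2, 1]) = true := by decide +kernel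

theorem rot2_14 : T.rot 2 [7, 2, 1, 2, 2, 1, 2, 1, 2, 1, 3, 1, 2, 1] (sel (ones 165) ip2 14) = true := by decide +kernel

theorem rot2_14r : band (Rule.ok (2 * 1) EX RL ⟨2 :: [7, 2, 1, 2, 2, 1, 2, 1, 2, 1, 3, 1, 2, 1], [3, 0, 2, 0, 3, 0, 2, 0, 3, 0, 2, 2], 6, true⟩) (lall (memL L) [7, 2, 1, 2, 2, 1, 2, 1, 2, 1, 3, 1, 2, 1]) = true := by decide +kernel

theorem rot2_15 : T.rot 2 [1, 3, 1, 3, 1, 3, 3, 1, 3, 6, 3, 1, 3, 1] (sel (ones 165) ip2 15) = true := by decide +kernel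

theorem rot2_15r : band (Rule.ok (2 * 1) EX RL ⟨2 :: [1, 3, 1, 3, 1, 3, 3, 1, 3, 6, 3, 1, 3, 1], [3, 0, 3, 3, 0, 3, 0, 3, 0, 2], 6, false⟩) (lall (memL L) [1, 3, 1, 3, 1, 3, 3, 1, 3, 6, 3, 1, 3, 1]) = true := by decide +kernel

theorem rot2_16 : T.rot 2 [1, 2, 1, 3, 9, 7, 5, 7, 2, 1, 2, 2, 1, 3, 1] (sel (ones 165) ip2 16) = true := by decide +kernel

theorem rot2_16r : band (Rule.ok (2 * 1) EX RL ⟨2 :: [1, 2, 1, 3, 9, 7, 5, 7, 2, 1, 2, 2, 1, 3, 1], [3, 0, 3, 3, 0, 2, 0], 7, true⟩) (lall (memL L) [1, 2, 1, 3, 9, 7, 5, 7, 2, 1, 2, 2, 1, 3, 1]) = true := by decide +kernel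

theorem rot2_17 : T.rot 2 [1, 3, 9, 7, 5, 7, 2, 1, 2, 2, 1, 3, 1, 2, 1] (sel (ones 165) ip2 17) = true := by decide +kernel

theorem rot2_17r : band (Rule.ok (2 * 1) EX RL ⟨2 :: [1, 3, 9, 7, 5, 7, 2, 1, 2, 2, 1, 3, 1, 2, 1], [3, 0, 3, 3, 0, 2, 0, 3, 0], 7, true⟩) (lall (memL L) [1, 3, 9, 7, 5, 7, 2, 1, 2, 2, 1, 3, 1, 2, 1]) = true := by decide +kernel

theorem cov2 : T.cover 2 [(sel (ones 165) ip2 1), (sel (ones 165) ip2 2), (sel (ones 165) ip2 3), (sel (ones 165) ip2 4), (sel (ones 165) ip2 5), (sel (ones 165) ip2 6), (sel (ones 165) ip2 7), (sel (ones 165) ip2 8), (sel (ones 165) ip2 9), (sel (ones 165) ip2 10), (sel (ones 165) ip2 11), (sel (ones 165) ip2 12), (sel (ones 165) ip2 13), (sel (ones 165) ip2 14), (sel (ones 165) ip2 15), (sel (ones 165) ip2 16), (sel (ones 165) ip2 17)] = true := by decide +kernel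

theorem tl2 : T.treeLt 8 2 = true := by decide +kernel

theorem rot3_1 : T.rot 3 [2] (sel (ones 165) ip3 1) = true := by decide +kernel

theorem rot3_1r : band (Rule.ok (2 * 1) EX RL ⟨3 :: [2], [], 8, false⟩) (lall (memL L) [2]) = true := by decide +kernel

theorem rot3_2 : T.rot 3 [3, 3, 3] (sel (ones 165) ip3 2) = true := by decide +kernel

theorem rot3_2r : band (Rule.ok (2 * 1) EX RL ⟨3 :: [3, 3, 3], [], 5, false⟩) (lall (memL L) [3, 3, 3]) = true := by decide +kernel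

theorem rot3_3 : T.rot 3 [3, 1, 3, 3, 5, 2, 2, 1] (sel (ones 165) ip3 3) = true := by decide +kernel

theorem rot3_3r : band (Rule.ok (2 * 1) EX RL ⟨3 :: [3, 1, 3, 3, 5, 2, 2, 1], [], 8, false⟩) (lall (memL L) [3, 1, 3, 3, 5, 2, 2, 1]) = true := by decide +kernel

theorem rot3_4 : T.rot 3 [3, 5, 2, 2, 1, 3, 3, 1] (sel (ones 165) ip3 4) = true := by decide +kernel

theorem rot3_4r : band (Rule.ok (2 * 1) EX RL ⟨3 :: [3, 5, 2, 2, 1, 3, 3, 1], [], 8, false⟩) (lall (memL L) [3, 5, 2, 2, 1, 3, 3, 1]) = true := by decide +kernel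

theorem rot3_5 : T.rot 3 [1, 2, 1, 3, 1, 2, 1, 3, 7, 2, 1] (sel (ones 165) ip3 5) = true := by decide +kernel

theorem rot3_5r : band (Rule.ok (2 * 1) EX RL ⟨3 :: [1, 2, 1, 3, 1, 2, 1, 3, 7, 2, 1], [], 8, false⟩) (lall (memL L) [1, 2, 1, 3, 1, 2, 1, 3, 7, 2, 1]) = true := by decide +kernel

theorem rot3_6 : T.rot 3 [1, 2, 1, 3, 7, 2, 1, 3, 1, 2, 1] (sel (ones 165) ip3 6) = true := by decide +kernel

theorem rot3_6r : band (Rule.ok (2 * 1) EX RL ⟨3 :: [1, 2, 1, 3, 7, 2, 1, 3, 1, 2, 1], [], 8, false⟩) (lall (memL L) [1, 2, 1, 3, 7, 2, 1, 3, 1, 2, 1]) = true := by decide +kernel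

theorem rot3_7 : T.rot 3 [7, 2, 1, 3, 1, 2, 1, 3, 1, 2, 1] (sel (ones 165) ip3 7) = true := by decide +kernel

theorem rot3_7r : band (Rule.ok (2 * 1) EX RL ⟨3 :: [7, 2, 1, 3, 1, 2, 1, 3, 1, 2, 1], [], 8, false⟩) (lall (memL L) [7, 2, 1, 3, 1, 2, 1, 3, 1, 2, 1]) = true := by decide +kernel

theorem rot3_8 : T.rot 3 [1, 2, 1, 3, 6, 2, 1, 3, 1, 2, 1] (sel (ones 165) ip3 8) = true := by decide +kernel

theorem rot3_8r : band (Rule.ok (2 * 1) EX RL ⟨3 :: [1, 2, 1, 3, 6, 2, 1, 3, 1, 2, 1], [], 8, false⟩) (lall (memL L) [1, 2, 1, 3, 6, 2, 1, 3, 1, 2, 1]) = true := by decide +kernel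

theorem rot3_9 : T.rot 3 [1, 2, 1, 3, 1, 2, 1, 3, 1, 2, 9] (sel (ones 165) ip3 9) = true := by decide +kernel

theorem rot3_9r : band (Rule.ok (2 * 1) EX RL ⟨3 :: [1, 2, 1, 3, 1, 2, 1, 3, 1, 2, 9], [], 8, false⟩) (lall (memL L) [1, 2, 1, 3, 1, 2, 1, 3, 1, 2, 9]) = true := by decide +kernel

theorem rot3_10 : T.rot 3 [1, 2, 1, 3, 1, 2, 9, 3, 1, 2, 1] (sel (ones 165) ip3 10) = true := by decide +kernel

theorem rot3_10r : band (Rule.ok (2 * 1) EX RL ⟨3 :: [1, 2, 1, 3, 1, 2, 9, 3, 1, 2, 1], [], 8, false⟩) (lall (memL L) [1, 2, 1, 3, 1, 2, 9, 3, 1, 2, 1]) = true := by decide +kernel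

theorem rot3_11 : T.rot 3 [1, 2, 1, 2, 7, 2, 1, 2, 2, 1, 2, 1, 2, 1] (sel (ones 165) ip3 11) = true := by decide +kernel

theorem rot3_11r : band (Rule.ok (2 * 1) EX RL ⟨3 :: [1, 2, 1, 2, 7, 2, 1, 2, 2, 1, 2, 1, 2, 1], [3, 0, 3, 3, 0, 3, 0, 3, 0], 6, true⟩) (lall (memL L) [1, 2, 1, 2, 7, 2, 1, 2, 2, 1, 2, 1, 2, 1]) = true := by decide +kernel

theorem rot3_12 : T.rot 3 [1, 3, 1, 2, 1, 3, 1, 3, 1, 3, 3, 1, 3, 6] (sel (ones 165) ip3 12) = true := by decide +kernel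

theorem rot3_12r : band (Rule.ok (2 * 1) EX RL ⟨3 :: [1, 3, 1, 2, 1, 3, 1, 3, 1, 3, 3, 1, 3, 6], [3, 0, 2, 0, 3, 0, 2, 0, 3, 0, 2], 6, false⟩) (lall (memL L) [1, 3, 1, 2, 1, 3, 1, 3, 1, 3, 3, 1, 3, 6]) = true := by decide +kernel

theorem rot3_13 : T.rot 3 [1, 3, 1, 3, 3, 1, 3, 6, 3, 1, 3, 1, 2, 1] (sel (ones 165) ip3 13) = true := by decide +kernel

theorem rot3_13r : band (Rule.ok (2 * 1) EX RL ⟨3 :: [1, 3, 1, 3, 3, 1, 3, 6, 3, 1, 3, 1, 2, 1], [3, 0, 3, 3, 0, 3, 0, 3], 6, false⟩) (lall (memL L) [1, 3, 1, 3, 3, 1, 3, 6, 3, 1, 3, 1, 2, 1]) = true := by decide +kernel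

theorem rot3_14 : T.rot 3 [1, 3, 3, 1, 3, 6, 3, 1, 3, 1, 2, 1, 3, 1] (sel (ones 165) ip3 14) = true := by decide +kernel

theorem rot3_14r : band (Rule.ok (2 * 1) EX RL ⟨3 :: [1, 3, 3, 1, 3, 6, 3, 1, 3, 1, 2, 1, 3, 1], [3, 0, 3, 3, 0, 3], 6, false⟩) (lall (memL L) [1, 3, 3, 1, 3, 6, 3, 1, 3, 1, 2, 1, 3, 1]) = true := by decide +kernel

theorem rot3_15 : T.rot 3 [1, 3, 6, 3, 1, 3, 1, 2, 1, 3, 1, 3, 1, 3] (sel (ones 165) ip3 15) = true := by decide +kernel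

theorem rot3_15r : band (Rule.ok (2 * 1) EX RL ⟨3 :: [1, 3, 6, 3, 1, 3, 1, 2, 1, 3, 1, 3, 1, 3], [3, 0, 3], 6, false⟩) (lall (memL L) [1, 3, 6, 3, 1, 3, 1, 2, 1, 3, 1, 3, 1, 3]) = true := by decide +kernel

theorem rot3_16 : T.rot 3 [1, 3, 1, 2, 1, 3, 3, 1, 3, 6, 4, 6, 8, 2, 1] (sel (ones 165) ip3 16) = true := by decide +kernel

theorem rot3_16r : band (Rule.ok (2 * 1) EX RL ⟨3 :: [1, 3, 1, 2, 1, 3, 3, 1, 3, 6, 4, 6, 8, 2, 1], [3, 0, 3, 3, 0, 2, 0, 3, 0, 3], 7, false⟩) (lall (memL L) [1, 3, 1, 2, 1, 3, 3, 1, 3, 6, 4, 6, 8, 2, 1]) = true := by decide +kernel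

theorem rot3_17 : T.rot 3 [1, 2, 1, 3, 3, 1, 3, 6, 4, 6, 8, 2, 1, 3, 1] (sel (ones 165) ip3 17) = true := by decide +kernel

theorem rot3_17r : band (Rule.ok (2 * 1) EX RL ⟨3 :: [1, 2, 1, 3, 3, 1, 3, 6, 4, 6, 8, 2, 1, 3, 1], [3, 0, 3, 3, 0, 2, 0, 3], 7, false⟩) (lall (memL L) [1, 2, 1, 3, 3, 1, 3, 6, 4, 6, 8, 2, 1, 3, 1]) = true := by decide +kernel

theorem cov3 : T.cover 3 [(sel (ones 165) ip3 1), (sel (ones 165) ip3 2), (sel (ones 165) ip3 3), (sel (ones 165) ip3 4), (sel (ones 165) ip3 5), (sel (ones 165) ip3 6), (sel (ones 165) ip3 7), (sel (ones 165) ip3 8), (sel (ones 165) ip3 9), (sel (ones 165) ip3 10), (sel (ones 165) ip3 11), (sel (ones 165) ip3 12), (sel (ones 165) ip3 13), (sel (ones 165) ip3 14), (sel (ones 165) ip3 15), (sel (ones 165) ip3 16), (sel (ones 165) ip3 17)] = true := by decide +kernel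

theorem tl3 : T.treeLt 8 3 = true := by decide +kernel

theorem rot4_1 : T.rot 4 [6, 8, 4, 6, 4, 8, 6] (sel (ones 165) ip4 1) = true := by decide +kernel

theorem rot4_1r : band (Rule.ok (2 * 1) EX RL ⟨4 :: [6, 8, 4, 6, 4, 8, 6], [2, 0, 3, 0, 2, 0, 3, 0, 2, 0, 3, 3, 0, 2, 0, 3, 0, 2, 0, 3, 0, 3, 0, 3, 3, 0, 2, 2], 0, true⟩) (lall (memL L) [6, 8, 4, 6, 4, 8, 6]) = true := by decide +kernel

theorem rot4_2 : T.rot 4 [2, 2, 1, 2, 2, 1, 3, 3] (sel (ones 165) ip4 2) = true := by decide +kernel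

theorem rot4_2r : band (Rule.ok (2 * 1) EX RL ⟨4 :: [2, 2, 1, 2, 2, 1, 3, 3], [], 8, false⟩) (lall (memL L) [2, 2, 1, 2, 2, 1, 3, 3]) = true := by decide +kernel

theorem rot4_3 : T.rot 4 [6, 8, 2, 1, 3, 1, 3, 1, 2, 1, 3, 3, 1, 3, 6] (sel (ones 165) ip4 3) = true := by decide +kernel

theorem rot4_3r : band (Rule.ok (2 * 1) EX RL ⟨4 :: [6, 8, 2, 1, 3, 1, 3, 1, 2, 1, 3, 3, 1, 3, 6], [3, 0, 2, 0, 3, 0, 2, 0, 3, 0, 2], 7, false⟩) (lall (memL L) [6, 8, 2, 1, 3, 1, 3, 1, 2, 1, 3, 3, 1, 3, 6]) = true := by decide +kernel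

theorem cov4 : T.cover 4 [(sel (ones 165) ip4 1), (sel (ones 165) ip4 2), (sel (ones 165) ip4 3), 1] = true := by decide +kernel

theorem tl4 : Nat.beq (T.let 4).tt 0 = true := by decide +kernel

theorem rot5_1 : T.rot 5 [4] (sel (ones 165) ip5 1) = true := by decide +kernel

theorem rot5_1r : band (Rule.ok (2 * 1) EX RL ⟨5 :: [4], [], 8, false⟩) (lall (memL L) [4]) = true := by decide +kernel

theorem rot5_2 : T.rot 5 [7, 9, 5, 7, 5, 9, 7] (sel (ones 165) ip5 2) = true := by decide +kernel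

theorem rot5_2r : band (Rule.ok (2 * 1) EX RL ⟨5 :: [7, 9, 5, 7, 5, 9, 7], [2, 0, 3, 0, 2, 0, 3, 0, 2, 0, 3, 3, 0, 2, 0, 3, 0, 2, 0, 3, 0, 2], 0, false⟩) (lall (memL L) [7, 9, 5, 7, 5, 9, 7]) = true := by decide +kernel

theorem rot5_3 : T.rot 5 [2, 2, 1, 3, 3, 1, 3, 3] (sel (ones 165) ip5 3) = true := by decide +kernel

theorem rot5_3r : band (Rule.ok (2 * 1) EX RL ⟨5 :: [2, 2, 1, 3, 3, 1, 3, 3], [], 8, false⟩) (lall (memL L) [2, 2, 1, 3, 3, 1, 3, 3]) = true := by decide +kernel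

theorem rot5_4 : T.rot 5 [7, 2, 1, 2, 2, 1, 3, 1, 2, 1, 2, 1, 3, 9, 7] (sel (ones 165) ip5 4) = true := by decide +kernel

theorem rot5_4r : band (Rule.ok (2 * 1) EX RL ⟨5 :: [7, 2, 1, 2, 2, 1, 3, 1, 2, 1, 2, 1, 3, 9, 7], [3, 0, 2, 0, 3, 0, 2, 0, 3, 0, 3, 0, 2, 2, 0, 2, 2], 7, true⟩) (lall (memL L) [7, 2, 1, 2, 2, 1, 3, 1, 2, 1, 2, 1, 3, 9, 7]) = true := by decide +kernel

theorem cov5 : T.cover 5 [(sel (ones 165) ip5 1), (sel (ones 165) ip5 2), (sel (ones 165) ip5 3), (sel (ones 165) ip5 4)] = true := by decide +kernel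

theorem tl5 : Nat.beq (T.let 5).tt 0 = true := by decide +kernel

theorem rot6_1 : T.rot 6 [6] (sel (ones 165) ip6 1) = true := by decide +kernel

theorem rot6_1r : band (Rule.ok (2 * 1) EX RL ⟨6 :: [6], [], 8, false⟩) (lall (memL L) [6]) = true := by decide +kernel

theorem rot6_2 : T.rot 6 [8, 4, 6, 4, 8, 6, 4] (sel (ones 165) ip6 2) = true := by decide +kernel

theorem rot6_2r : band (Rule.ok (2 * 1) EX RL ⟨6 :: [8, 4, 6, 4, 8, 6, 4], [2, 0, 3, 0, 2, 0, 3, 0, 2, 0, 3, 3, 0, 2, 0, 3, 0, 2, 0, 3, 0, 2], 0, true⟩) (lall (memL L) [8, 4, 6, 4, 8, 6, 4]) = true := by decide +kernel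

theorem rot6_3 : T.rot 6 [2, 1, 3, 1, 2, 1, 3, 1, 2, 1, 3] (sel (ones 165) ip6 3) = true := by decide +kernel

theorem rot6_3r : band (Rule.ok (2 * 1) EX RL ⟨6 :: [2, 1, 3, 1, 2, 1, 3, 1, 2, 1, 3], [], 8, false⟩) (lall (memL L) [2, 1, 3, 1, 2, 1, 3, 1, 2, 1, 3]) = true := by decide +kernel

theorem rot6_4 : T.rot 6 [3, 1, 3, 1, 2, 1, 3, 1, 3, 1, 3, 3, 1, 3] (sel (ones 165) ip6 4) = true := by decide +kernel

theorem rot6_4r : band (Rule.ok (2 * 1) EX RL ⟨6 :: [3, 1, 3, 1, 2, 1, 3, 1, 3, 1, 3, 3, 1, 3], [], 6, false⟩) (lall (memL L) [3, 1, 3, 1, 2, 1, 3, 1, 3, 1, 3, 3, 1, 3]) = true := by decide +kernel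

theorem rot6_5 : T.rot 6 [4, 6, 8, 2, 1, 3, 1, 3, 1, 2, 1, 3, 3, 1, 3] (sel (ones 165) ip6 5) = true := by decide +kernel

theorem rot6_5r : band (Rule.ok (2 * 1) EX RL ⟨6 :: [4, 6, 8, 2, 1, 3, 1, 3, 1, 2, 1, 3, 3, 1, 3], [], 7, false⟩) (lall (memL L) [4, 6, 8, 2, 1, 3, 1, 3, 1, 2, 1, 3, 3, 1, 3]) = true := by decide +kernel

theorem rot6_6 : T.rot 6 [8, 2, 1, 3, 1, 3, 1, 2, 1, 3, 3, 1, 3, 6, 4] (sel (ones 165) ip6 6) = true := by decide +kernel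

theorem rot6_6r : band (Rule.ok (2 * 1) EX RL ⟨6 :: [8, 2, 1, 3, 1, 3, 1, 2, 1, 3, 3, 1, 3, 6, 4], [3, 0, 2, 0, 3, 0, 2, 0, 3, 0, 3, 0, 2, 2, 0, 2, 2], 7, false⟩) (lall (memL L) [8, 2, 1, 3, 1, 3, 1, 2, 1, 3, 3, 1, 3, 6, 4]) = true := by decide +kernel

theorem cov6 : T.cover 6 [(sel (ones 165) ip6 1), (sel (ones 165) ip6 2), (sel (ones 165) ip6 3), (sel (ones 165) ip6 4), (sel (ones 165) ip6 5), (sel (ones 165) ip6 6), 1] = true := by decide +kernel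

theorem tl6 : Nat.beq (T.let 6).tt 0 = true := by decide +kernel

theorem rot7_1 : T.rot 7 [6] (sel (ones 165) ip7 1) = true := by decide +kernel

theorem rot7_1r : band (Rule.ok (2 * 1) EX RL ⟨7 :: [6], [], 8, false⟩) (lall (memL L) [6]) = true := by decide +kernel

theorem rot7_2 : T.rot 7 [7] (sel (ones 165) ip7 2) = true := by decide +kernel

theorem rot7_2r : band (Rule.ok (2 * 1) EX RL ⟨7 :: [7], [], 8, false⟩) (lall (memL L) [7]) = true := by decide +kernel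

theorem rot7_3 : T.rot 7 [5, 9, 7, 5, 7, 9, 5] (sel (ones 165) ip7 3) = true := by decide +kernel

theorem rot7_3r : band (Rule.ok (2 * 1) EX RL ⟨7 :: [5, 9, 7, 5, 7, 9, 5], [3, 3, 0, 2, 2, 0, 2, 0, 2, 0, 3, 0, 2, 0, 3, 0, 2], 0, false⟩) (lall (memL L) [5, 9, 7, 5, 7, 9, 5]) = true := by decide +kernel

theorem rot7_4 : T.rot 7 [2, 1, 3, 1, 2, 1, 3, 1, 2, 1, 3] (sel (ones 165) ip7 4) = true := by decide +kernel

theorem rot7_4r : band (Rule.ok (2 * 1) EX RL ⟨7 :: [2, 1, 3, 1, 2, 1, 3, 1, 2, 1, 3], [], 8, false⟩) (lall (memL L) [2, 1, 3, 1, 2, 1, 3, 1, 2, 1, 3]) = true := by decide +kernel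

theorem rot7_5 : T.rot 7 [2, 1, 2, 2, 1, 2, 1, 2, 1, 3, 1, 2, 1, 2] (sel (ones 165) ip7 5) = true := by decide +kernel

theorem rot7_5r : band (Rule.ok (2 * 1) EX RL ⟨7 :: [2, 1, 2, 2, 1, 2, 1, 2, 1, 3, 1, 2, 1, 2], [3, 0, 2, 0, 3, 0, 2, 0, 3, 0, 2], 6, true⟩) (lall (memL L) [2, 1, 2, 2, 1, 2, 1, 2, 1, 3, 1, 2, 1, 2]) = true := by decide +kernel

theorem rot7_6 : T.rot 7 [5, 7, 2, 1, 2, 2, 1, 3, 1, 2, 1, 2, 1, 3, 9] (sel (ones 165) ip7 6) = true := by decide +kernel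

theorem rot7_6r : band (Rule.ok (2 * 1) EX RL ⟨7 :: [5, 7, 2, 1, 2, 2, 1, 3, 1, 2, 1, 2, 1, 3, 9], [3, 0, 3, 3, 0, 2, 0, 3, 0, 3, 0, 2, 2, 0, 3, 0, 2, 0, 3, 0, 2, 0, 3], 7, true⟩) (lall (memL L) [5, 7, 2, 1, 2, 2, 1, 3, 1, 2, 1, 2, 1, 3, 9]) = true := by decide +kernel

theorem rot7_7 : T.rot 7 [2, 1, 2, 2, 1, 3, 1, 2, 1, 2, 1, 3, 9, 7, 5] (sel (ones 165) ip7 7) = true := by decide +kernel

theorem rot7_7r : band (Rule.ok (2 * 1) EX RL ⟨7 :: [2, 1, 2, 2, 1, 3, 1, 2, 1, 2, 1, 3, 9, 7, 5], [3, 0, 2, 0, 3, 0, 2, 0, 3, 0, 2], 7, true⟩) (lall (memL L) [2, 1, 2, 2, 1, 3, 1, 2, 1, 2, 1, 3, 9, 7, 5]) = true := by decide +kernel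

theorem cov7 : T.cover 7 [(sel (ones 165) ip7 1), (sel (ones 165) ip7 2), (sel (ones 165) ip7 3), (sel (ones 165) ip7 4), (sel (ones 165) ip7 5), (sel (ones 165) ip7 6), (sel (ones 165) ip7 7)] = true := by decide +kernel

theorem tl7 : Nat.beq (T.let 7).tt 0 = true := by decide +kernel

theorem rot8_1 : T.rot 8 [6, 4, 6, 8, 4, 6, 4] (sel (ones 165) ip8 1) = true := by decide +kernel

theorem rot8_1r : band (Rule.ok (2 * 1) EX RL ⟨8 :: [6, 4, 6, 8, 4, 6, 4], [3, 3, 0, 2, 2, 0, 2, 0, 2, 0, 3, 0, 2, 0, 3, 0, 3, 0, 2, 2, 0, 2, 2], 0, true⟩) (lall (memL L) [6, 4, 6, 8, 4, 6, 4]) = true := by decide +kernel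

theorem rot8_2 : T.rot 8 [4, 6, 4, 8, 6, 4, 6] (sel (ones 165) ip8 2) = true := by decide +kernel

theorem rot8_2r : band (Rule.ok (2 * 1) EX RL ⟨8 :: [4, 6, 4, 8, 6, 4, 6], [2, 0, 3, 0, 2, 0, 3, 0, 2, 0, 3], 0, true⟩) (lall (memL L) [4, 6, 4, 8, 6, 4, 6]) = true := by decide +kernel

theorem rot8_3 : T.rot 8 [3, 1, 2, 1, 3, 1, 2, 1, 3, 1, 2] (sel (ones 165) ip8 3) = true := by decide +kernel

theorem rot8_3r : band (Rule.ok (2 * 1) EX RL ⟨8 :: [3, 1, 2, 1, 3, 1, 2, 1, 3, 1, 2], [], 8, false⟩) (lall (memL L) [3, 1, 2, 1, 3, 1, 2, 1, 3, 1, 2]) = true := by decide +kernel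

theorem rot8_4 : T.rot 8 [2, 1, 3, 1, 3, 1, 2, 1, 3, 3, 1, 3, 6, 4, 6] (sel (ones 165) ip8 4) = true := by decide +kernel

theorem rot8_4r : band (Rule.ok (2 * 1) EX RL ⟨8 :: [2, 1, 3, 1, 3, 1, 2, 1, 3, 3, 1, 3, 6, 4, 6], [3, 0, 3, 3, 0, 2, 0, 3, 0, 3, 0, 2, 2, 0, 3, 0, 2, 0, 3, 0, 2, 0, 3], 7, false⟩) (lall (memL L) [2, 1, 3, 1, 3, 1, 2, 1, 3, 3, 1, 3, 6, 4, 6]) = true := by decide +kernel

theorem cov8 : T.cover 8 [(sel (ones 165) ip8 1), (sel (ones 165) ip8 2), (sel (ones 165) ip8 3), (sel (ones 165) ip8 4), 1] = true := by decide +kernel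

theorem tl8 : Nat.beq (T.let 8).tt 0 = true := by decide +kernel

theorem rot9_1 : T.rot 9 [8] (sel (ones 165) ip9 1) = true := by decide +kernel

theorem rot9_1r : band (Rule.ok (2 * 1) EX RL ⟨9 :: [8], [], 8, false⟩) (lall (memL L) [8]) = true := by decide +kernel

theorem rot9_2 : T.rot 9 [9] (sel (ones 165) ip9 2) = true := by decide +kernel

theorem rot9_2r : band (Rule.ok (2 * 1) EX RL ⟨9 :: [9], [], 8, false⟩) (lall (memL L) [9]) = true := by decide +kernel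

theorem rot9_3 : T.rot 9 [7, 5, 7, 9, 5, 7, 5] (sel (ones 165) ip9 3) = true := by decide +kernel

theorem rot9_3r : band (Rule.ok (2 * 1) EX RL ⟨9 :: [7, 5, 7, 9, 5, 7, 5], [], 0, false⟩) (lall (memL L) [7, 5, 7, 9, 5, 7, 5]) = true := by decide +kernel

theorem rot9_4 : T.rot 9 [5, 7, 5, 9, 7, 5, 7] (sel (ones 165) ip9 4) = true := by decide +kernel

theorem rot9_4r : band (Rule.ok (2 * 1) EX RL ⟨9 :: [5, 7, 5, 9, 7, 5, 7], [3, 3, 0, 2, 2, 0, 2, 0, 2, 0, 3, 0, 2, 0, 3, 0, 3, 0, 2, 2, 0, 2, 2, 2, 0, 3, 0, 2, 0, 3, 0, 2, 0, 3], 0, false⟩) (lall (memL L) [5, 7, 5, 9, 7, 5, 7]) = true := by decide +kernel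

theorem rot9_5 : T.rot 9 [3, 1, 2, 1, 3, 1, 2, 1, 3, 1, 2] (sel (ones 165) ip9 5) = true := by decide +kernel

theorem rot9_5r : band (Rule.ok (2 * 1) EX RL ⟨9 :: [3, 1, 2, 1, 3, 1, 2, 1, 3, 1, 2], [], 8, false⟩) (lall (memL L) [3, 1, 2, 1, 3, 1, 2, 1, 3, 1, 2]) = true := by decide +kernel

theorem rot9_6 : T.rot 9 [7, 5, 7, 2, 1, 2, 2, 1, 3, 1, 2, 1, 2, 1, 3] (sel (ones 165) ip9 6) = true := by decide +kernel

theorem rot9_6r : band (Rule.ok (2 * 1) EX RL ⟨9 :: [7, 5, 7, 2, 1, 2, 2, 1, 3, 1, 2, 1, 2, 1, 3], [3, 0, 3, 3, 0, 2, 0, 3, 0, 3, 0, 2], 7, true⟩) (lall (memL L) [7, 5, 7, 2, 1, 2, 2, 1, 3, 1, 2, 1, 2, 1, 3]) = true := by decide +kernel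

theorem cov9 : T.cover 9 [(sel (ones 165) ip9 1), (sel (ones 165) ip9 2), (sel (ones 165) ip9 3), (sel (ones 165) ip9 4), (sel (ones 165) ip9 5), (sel (ones 165) ip9 6)] = true := by decide +kernel

theorem tl9 : Nat.beq (T.let 9).tt 0 = true := by decide +kernel

end Cfsg.Agent.Spor.M11a
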